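import Cfsg.Agent.Lib.Helper2.O73Cls.Model

/-!
# The 364-point permutation group of the presented group `P` of order 4585351680 (`PΩ₇(3)`)

Facts for the construction of a covering group: the image of helper4's faithful permutation representation `ψ`
is the closure of the eight generator permutations, and it has the order of `P`.
-/

set_option autoImplicit false

namespace Cfsg.Agent.Lib.Helper2.O73Mult

open Cfsg.Agent.Helper4.TC Cfsg.Agent.Lib.Helper28.BSGS Cfsg.Agent.Lib.Helper2.O73Cls

/-- the eight generator permutations on 364 points -/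
noncomputable def q364 (x : Gen) : Equiv.Perm (Fin 364) := permOf 364 9 (T364 x).1 (T364 x).2

theorem ψ_of' (x : Gen) : ψ (PresentedGroup.of x) = q364 x := ψ_of x

theorem ψ_range_eq : (ψ : P →* Equiv.Perm (Fin 364)).range = Subgroup.closure (Set.range q364) := by
  rw [MonoidHom.range_eq_map, ← PresentedGroup.closure_range_of O73PE6a.Rset, MonoidHom.map_closure]
  congr 1
  ext y
  constructor
  · rintro ⟨_, ⟨x, rfl⟩, rfl⟩
    exact ⟨x, (ψ_of' x).symm⟩
  · rintro ⟨x, rfl⟩
    exact ⟨_, ⟨x, rfl⟩, ψ_of' x⟩

theorem card_P : Nat.card P = 4585351680 := O73PS.main.2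

instance : Finite P := Nat.finite_of_card_ne_zero (by rw [card_P]; norm_num)

theorem card_ψ_range : Nat.card (ψ : P →* Equiv.Perm (Fin 364)).range = 4585351680 := by
  rw [← card_P]
  exact (Nat.card_congr (MonoidHom.ofInjective ψ_injective).toEquiv).symm

/-- `P` is isomorphic to its image -/
noncomputable def ψEquiv : P ≃* (ψ : P →* Equiv.Perm (Fin 364)).range := MonoidHom.ofInjective ψ_injective

theorem q364_mem (x : Gen) : q364 x ∈ (ψ : P →* Equiv.Perm (Fin 364)).range := ⟨PresentedGroup.of x, ψ_of' x⟩

end Cfsg.Agent.Lib.Helper2.O73Mult
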