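import Cfsg.Agent.H5.TCk2

/-! Todd–Coxeter log (helper5's fast checker) for stage 3 of the chain of the Steinberg presentation (generated): index 27. -/

set_option autoImplicit false

namespace Cfsg.Agent.Lib.Helper2.O73Mult.StC3

def rels : List (List ℕ) := [[0, 0, 0],
  [2, 2, 2],
  [4, 4, 4],
  [6, 6, 6],
  [8, 8, 8],
  [10, 10, 10],
  [1, 2, 0, 3],
  [1, 4, 0, 11, 5],
  [1, 6, 0, 7],
  [1, 8, 0, 9],
  [1, 10, 0, 11],
  [5, 2, 4, 3],
  [3, 6, 2, 11, 7],
  [3, 8, 2, 9],
  [3, 10, 2, 11],
  [5, 6, 4, 7],
  [5, 8, 4, 9],
  [5, 10, 4, 11],
  [7, 8, 6, 9],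
  [7, 10, 6, 11],
  [9, 10, 8, 11]]

def sgens : List (List ℕ) := [[6], [8], [10]]

set_option maxRecDepth 10000000 in
def defs : List (ℕ × ℕ) := [(0, 0), (0, 1), (0, 2), (0, 3), (0, 4), (0, 5), (1, 2), (1, 3), (1, 4), (1, 5), (2, 2), (2, 3), (2, 4), (2, 5), (3, 4), (3, 5), (4, 4), (4, 5), (7, 4), (7, 5), (8, 4), (8, 5), (11, 4), (11, 5), (12, 4), (12, 5)]

set_option maxRecDepth 10000000 in
def log : List ℕ := [2, 6, 10, 0, 13194173087749, 13194177282053, 13194181476357, 4, 4398046511105, 4398080065537, 4398084259841, 4398088454145, 8, 13194194059277, 13194198253581, 17592236376077, 12, 4398050705409, 4398096842753, 4398101037057, 4398105231361, 16, 13194202447893, 13194206642197, 13194210836501, 20, 4398054899713, 4398109425665, 4398113619969, 4398117814273, 24, 8796118188037, 13194173087773, 13194177282077, 13194181476381, 28, 4398050705413, 4398096842757, 4398101037061, 4398105231365, 8796118188061, 32, 13194202447909, 13194206642213, 13194210836517, 8796122382341, 36, 4398054899717, 4398109425669, 4398113619973, 4398117814277, 8796122382373, 40, 8796118188033, 8796118188041, 4398080065549,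 4398084259853, 4398088454157, 44, 4398050705417, 4398096842761, 4398101037065, 4398105231369, 8796118188045, 4398046511121, 48, 8796122382337, 4398046511125, 4398080065557, 4398084259861, 4398088454165, 52, 4398054899721, 4398109425673, 4398113619977, 4398117814281, 8796122382357, 4398046511129, 56, 13194185670677, 13194194059325, 13194198253629, 13194202447933, 60, 4398092648449, 4398054899725, 4398109425677, 4398113619981, 4398117814285, 64, 13194185670717, 4194373, 13194194059333, 13194198253637, 13194202447941, 68, 4398092648461, 4398054899729, 4398092648465, 4398109425681, 4398113619985, 4398117814289, 72, 13194185670693, 13194194059341, 13194198253645, 13194202447949, 8796122382365, 76, 4398092648453, 4398054899741, 4398109425693, 4398113619997, 4398117814301, 8796118188073, 80, 13194185670733, 4194389, 25165909, 13194173087829, 13194177282133, 13194181476437, 84, 4398092648477, 4398054899745, 4398092648481, 4398109425697, 4398113620001, 4398117814305, 8796118188113, 88, 8796122382349, 4398071676949, 8796118188085, 4398080065597, 4398084259901, 4398088454205, 92, 4398092648457, 8796118188057,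 4398054899757, 4398109425709, 4398113620013, 4398117814317, 8796118188089, 96, 8796122382353, 4398071676989, 4398046511173, 4398071676997, 4398080065605, 4398084259909, 4398088454213, 100, 4398092648493, 4398054899761, 4398092648497, 4398109425713, 4398113620017, 4398117814321, 8796118188097, 4398046511177]

set_option maxRecDepth 1000000 in
theorem tc_ok : Cfsg.H5.TCk2.checkS 5 3 12 27 27 defs rels sgens log = true := by decide +kernel

end Cfsg.Agent.Lib.Helper2.O73Mult.StC3
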