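import Cfsg.Agent.H5.TCk2

/-! Todd–Coxeter log (helper5's fast checker) for stage 4 of the chain of the Steinberg presentation (generated): index 27. -/

set_option autoImplicit false

namespace Cfsg.Agent.Lib.Helper2.O73Mult.StC4

def rels : List (List ℕ) := [[0, 0, 0],
  [2, 2, 2],
  [4, 4, 4],
  [1, 2, 0, 3],
  [1, 4, 0, 5],
  [3, 4, 2, 5]]

def sgens : List (List ℕ) := []

set_option maxRecDepth 10000000 in
def defs : List (ℕ × ℕ) := [(0, 0), (0, 1), (0, 2), (0, 3), (0, 4), (0, 5), (1, 2), (1, 3), (1, 4), (1, 5), (2, 2), (2, 3), (2, 4), (2, 5), (3, 4), (3, 5), (4, 4), (4, 5), (7, 4), (7, 5), (8, 4), (8, 5), (11, 4), (11, 5), (12, 4), (12, 5)]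

set_option maxRecDepth 10000000 in
def log : List ℕ := [0, 4, 4398046511105, 8, 12, 4398050705409, 16, 20, 4398054899713, 24, 8796105605125, 28, 4398050705413, 8796105605149, 32, 8796109799429, 36, 4398054899717, 8796109799461, 40, 8796105605121, 8796105605129, 44, 4398050705417, 8796105605133, 4398046511121, 48, 8796109799425, 8796109799433, 52, 4398054899721, 8796109799445, 4398046511129, 56, 8796113993741, 60, 4398054899725, 8796113993789, 64, 8796113993729, 8796113993745, 68, 4398054899729, 8796113993749, 4398050705433, 72, 8796109799453, 8796113993757, 76, 4398054899741, 8796109799501, 8796113993805, 80, 8796113993733, 8796109799457, 8796113993761, 84, 4398054899745, 8796113993765, 4398050705449, 8796105605201, 88, 8796109799437, 4398059094037, 8796109799469, 92, 4398054899757, 8796109799485, 4398046511169, 8796113993821, 96, 8796113993737, 8796109799441, 8796109799473, 8796113993777, 100, 4398054899761, 8796113993781, 4398050705465, 8796105605185, 4398046511177]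

set_option maxRecDepth 1000000 in
theorem tc_ok : Cfsg.H5.TCk2.checkS 5 3 6 27 27 defs rels sgens log = true := by decide +kernel

end Cfsg.Agent.Lib.Helper2.O73Mult.StC4
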