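import Cfsg.Agent.Lib.Helper2.O73Mult.Odd
import Cfsg.Agent.Lib.Helper1.WeakL4
import Cfsg.Agent.Lib.Helper11.SchurJA

/-!
# The kernel of a stem extension of `PΩ₇(3)`: odd part of order at most 3
-/

set_option autoImplicit false
set_option linter.unusedVariables false

namespace Cfsg.Agent.Lib.Helper2.O73Mult

open Cfsg Cfsg.Agent.Helper4.TC

theorem card_P7 : Nat.card P7 = 4585351680 := O73PS.main.2

instance finite_P7 : Finite P7 := Nat.finite_of_card_ne_zero (by rw [card_P7]; norm_num)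

/-- the `3`-part of the kernel of a finite stem extension of `PΩ₇(3)` has order at most 3 -/
theorem fact3_le {Γ : Type} [Group Γ] [Finite Γ] (σ : Γ →* P7) (hσ : IsStemExtension σ) :
    (Nat.card σ.ker).factorization 3 ≤ 1 := by
  haveI : Fact (Nat.Prime 3) := ⟨by norm_num⟩
  obtain ⟨Δ, _, _, τ, hτ, hp, hc⟩ := Cfsg.Agent.Lib.Helper10.Weak.exists_pker σ hσ 3
  have h1 := card_le_of_three τ hτ hp
  have h2 := Cfsg.Agent.Lib.Helper10.Weak.Helper1.card_eq_ker_mul τ hτ.1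
  rw [h2, card_P7, hc] at h1
  by_contra hcon
  have h3 : 2 ≤ (Nat.card σ.ker).factorization 3 := by omega
  have h4 : 3 ^ 2 ≤ 3 ^ (Nat.card σ.ker).factorization 3 := Nat.pow_le_pow_right (by norm_num) h3
  have h5 : 4585351680 * 3 ^ 2 ≤ 728 * (729 * 51840) := (Nat.mul_le_mul_left _ h4).trans h1
  norm_num at h5

/-- the primes `r ≥ 5` do not divide the order of the kernel -/
theorem not_dvd_ker {Γ : Type} [Group Γ] [Finite Γ] (σ : Γ →* P7) (hσ : IsStemExtension σ) (r : ℕ)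
    (hr : r.Prime) (h2 : r ≠ 2) (h3 : r ≠ 3) : ¬ r ∣ Nat.card σ.ker := by
  haveI : Fact r.Prime := ⟨hr⟩
  apply Cfsg.Agent.Lib.Helper11.SchurJ.not_dvd_of_sq_not_dvd σ hσ r
  rw [card_P7]
  intro hd
  -- 4585351680 = 2^9 * 3^9 * 5 * 7 * 13
  have e : (4585351680 : ℕ) = 2 ^ 9 * 3 ^ 9 * (5 * 7 * 13) := by norm_num
  rw [e] at hd
  have hc2 : Nat.Coprime (r ^ 2) (2 ^ 9) :=
    Nat.Coprime.pow _ _ ((Nat.coprime_primes hr Nat.prime_two).mpr h2)
  have hc3 : Nat.Coprime (r ^ 2) (3 ^ 9) :=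
    Nat.Coprime.pow _ _ ((Nat.coprime_primes hr Nat.prime_three).mpr h3)
  have hd2 : r ^ 2 ∣ 5 * 7 * 13 := by
    have := (hc2.mul_right hc3).dvd_of_dvd_mul_left hd
    exact this
  have hle : r ^ 2 ≤ 455 := Nat.le_of_dvd (by norm_num) hd2
  have hr22 : r ≤ 21 := by nlinarith
  have hr2 : 2 ≤ r := hr.two_le
  interval_cases r <;> omega

end Cfsg.Agent.Lib.Helper2.O73Mult
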