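import Cfsg.Agent.Lib.Helper2.O73Mult.StG
import Cfsg.Agent.Lib.Helper2.O73Mult.StC0
import Cfsg.Agent.Lib.Helper2.O73Mult.StC1
import Cfsg.Agent.Lib.Helper2.O73Mult.StC2
import Cfsg.Agent.Lib.Helper2.O73Mult.StC3
import Cfsg.Agent.Lib.Helper2.O73Mult.StC4
import Cfsg.Agent.Lib.Helper2.O73Mult.Upper
import Cfsg.Agent.Lib.Helper1.WeakL4
import Cfsg.Agent.H5.StemLift

/-!
# The 2-part of the multiplier of `PΩ₇(3)`: a stem extension with a 2-group kernel has order at most `2 |G|`

Steinberg's argument.  The eighteen root elements `x_α(1)` of `G = PΩ₇(3)` have order 3, so they lift uniquely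
to elements of order 3 of a central extension with a 2-group kernel, and the Steinberg relations hold for the
lifts (`StLift`).  The group with these relators has order at most `728 * 640 * 27 * 27 * 27 = 2 |G|` by five
certified coset enumerations along the chain of subgroups generated by final segments of the root elements.
-/

set_option autoImplicit false
set_option maxRecDepth 100000
set_option linter.unusedVariables false

namespace Cfsg.Agent.Lib.Helper2.O73Mult

open Cfsg Cfsg.H5.TCk Cfsg.Agent.Lib.Helper10.Weak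

/-- all relators: the cubes and the Steinberg relations -/
def rels0 : List (List ℕ) := (List.range 18).map cubeWord ++ StD.stData.map stWord

theorem sub0 : ∀ r ∈ StC0.rels, r.map (· + 2 * 0) ∈ rels0 := by decide +kernel
theorem sub1 : ∀ r ∈ StC1.rels, r.map (· + 2 * 5) ∈ rels0 := by decide +kernel
theorem sub2 : ∀ r ∈ StC2.rels, r.map (· + 2 * 9) ∈ rels0 := by decide +kernel
theorem sub3 : ∀ r ∈ StC3.rels, r.map (· + 2 * 12) ∈ rels0 := by decide +kernel
theorem sub4 : ∀ r ∈ StC4.rels, r.map (· + 2 * 15) ∈ rels0 := by decide +kernel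

theorem hl0 : ∀ r ∈ StC0.rels, r.all (fun l => decide (l < 2 * (5 + 13))) = true := by decide +kernel
theorem hl1 : ∀ r ∈ StC1.rels, r.all (fun l => decide (l < 2 * (4 + 9))) = true := by decide +kernel
theorem hl2 : ∀ r ∈ StC2.rels, r.all (fun l => decide (l < 2 * (3 + 6))) = true := by decide +kernel
theorem hl3 : ∀ r ∈ StC3.rels, r.all (fun l => decide (l < 2 * (3 + 3))) = true := by decide +kernel
theorem hl4 : ∀ r ∈ StC4.rels, r.all (fun l => decide (l < 2 * (3 + 0))) = true := by decide +kernel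

theorem sg0 : StC0.sgens = (List.range 13).map fun j => [2 * (j + 5)] := by decide
theorem sg1 : StC1.sgens = (List.range 9).map fun j => [2 * (j + 4)] := by decide
theorem sg2 : StC2.sgens = (List.range 6).map fun j => [2 * (j + 3)] := by decide
theorem sg3 : StC3.sgens = (List.range 3).map fun j => [2 * (j + 3)] := by decide
theorem sg4 : StC4.sgens = (List.range 0).map fun j => [2 * (j + 3)] := by decide

section

variable {Γ : Type} [Group Γ] [Finite Γ] (σ : Γ →* P7)

/-- a stem extension of `PΩ₇(3)` with a 2-group kernel has order at most `2 |G|` -/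
theorem card_le_of_two (hσ : IsStemExtension σ) (hk : IsPGroup 2 σ.ker) :
    Nat.card Γ ≤ 2 * 4585351680 := by
  have hex : ∀ i, ∃ y : Γ, σ y = γ i ∧ y ^ 3 = 1 := fun i =>
    exists_lift_pow_eq_one σ hσ.1 hk (γ i) (n := 3) (by decide) (γ_cube i)
  choose X hX using hex
  have hσX : (fun i => σ (X i)) = γ := funext fun i => (hX i).1
  have h3 : ∀ i, X i ^ 3 = 1 := fun i => (hX i).2
  have h0 : ∀ r ∈ rels0, ev X r = 1 := by
    intro r hr
    unfold rels0 at hr
    rcases List.mem_append.mp hr with h | h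
    · obtain ⟨k, _, rfl⟩ := List.mem_map.mp h
      rw [ev_cubeWord]
      exact h3 k
    · obtain ⟨d, hd, rfl⟩ := List.mem_map.mp h
      obtain ⟨g1, g2, g3, g4⟩ := γ_rel d hd
      exact ev_stWord_lift σ hσ.2.1 hk X h3 d (by rw [hσX]; exact g1) (by rw [hσX]; exact g2)
        (by rw [hσX]; exact g3) (by rw [hσX]; exact g4)
  have htop : Subgroup.closure (Set.range fun i : Fin 18 => X (i.val + 0)) = ⊤ := by
    apply Cfsg.H5.StemLift.eq_top_of_map_eq_top σ hσ
    rw [MonoidHom.map_closure]
    have : (⇑σ '' Set.range fun i : Fin 18 => X (i.val + 0)) = Set.range fun i : Fin 18 => γ i.val := by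
      ext y
      constructor
      · rintro ⟨_, ⟨i, rfl⟩, rfl⟩
        exact ⟨i, ((hX i.val).1).symm⟩
      · rintro ⟨i, rfl⟩
        exact ⟨X i.val, ⟨i, rfl⟩, (hX i.val).1⟩
    rw [this]
    exact γ_gen
  have s0 : Nat.card (Subgroup.closure (Set.range fun i : Fin 18 => X (i.val + 0))) ≤
      728 * Nat.card (Subgroup.closure (Set.range fun i : Fin 13 => X (i.val + 5))) :=
    chain_step X 0 5 13 rels0 StC0.rels h0 sub0 hl0 StC0.sgens sg0 10 4 729 728 StC0.defs StC0.log
      StC0.tc_ok
  have s1 : Nat.card (Subgroup.closure (Set.range fun i : Fin 13 => X (i.val + 5))) ≤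
      640 * Nat.card (Subgroup.closure (Set.range fun i : Fin 9 => X (i.val + 9))) :=
    chain_step X 5 4 9 rels0 StC1.rels h0 sub1 hl1 StC1.sgens sg1 10 4 650 640 StC1.defs StC1.log
      StC1.tc_ok
  have s2 : Nat.card (Subgroup.closure (Set.range fun i : Fin 9 => X (i.val + 9))) ≤
      27 * Nat.card (Subgroup.closure (Set.range fun i : Fin 6 => X (i.val + 12))) :=
    chain_step X 9 3 6 rels0 StC2.rels h0 sub2 hl2 StC2.sgens sg2 5 3 27 27 StC2.defs StC2.log
      StC2.tc_ok
  have s3 : Nat.card (Subgroup.closure (Set.range fun i : Fin 6 => X (i.val + 12))) ≤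
      27 * Nat.card (Subgroup.closure (Set.range fun i : Fin 3 => X (i.val + 15))) :=
    chain_step X 12 3 3 rels0 StC3.rels h0 sub3 hl3 StC3.sgens sg3 5 3 27 27 StC3.defs StC3.log
      StC3.tc_ok
  have s4 : Nat.card (Subgroup.closure (Set.range fun i : Fin 3 => X (i.val + 15))) ≤
      27 * Nat.card (Subgroup.closure (Set.range fun i : Fin 0 => X (i.val + 18))) :=
    chain_step X 15 3 0 rels0 StC4.rels h0 sub4 hl4 StC4.sgens sg4 5 3 27 27 StC4.defs StC4.log
      StC4.tc_ok
  have s5 : Nat.card (Subgroup.closure (Set.range fun i : Fin 0 => X (i.val + 18))) = 1 := by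
    have : (Set.range fun i : Fin 0 => X (i.val + 18)) = ∅ := Set.range_eq_empty _
    rw [this, Subgroup.closure_empty, Subgroup.card_bot]
  rw [htop, Subgroup.card_top] at s0
  rw [s5] at s4
  calc Nat.card Γ ≤ 728 * (640 * (27 * (27 * (27 * 1)))) := by
        refine s0.trans (Nat.mul_le_mul_left _ (s1.trans (Nat.mul_le_mul_left _
          (s2.trans (Nat.mul_le_mul_left _ (s3.trans (Nat.mul_le_mul_left _ s4)))))))
    _ = 2 * 4585351680 := by norm_num

end

/-- the 2-part of the kernel of a finite stem extension of `PΩ₇(3)` has order at most 2 -/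
theorem fact2_le {Γ : Type} [Group Γ] [Finite Γ] (σ : Γ →* P7) (hσ : IsStemExtension σ) :
    (Nat.card σ.ker).factorization 2 ≤ 1 := by
  haveI : Fact (Nat.Prime 2) := ⟨Nat.prime_two⟩
  obtain ⟨Δ, _, _, τ, hτ, hp, hc⟩ := exists_pker σ hσ 2
  have h1 := card_le_of_two τ hτ hp
  have h2 := Helper1.card_eq_ker_mul τ hτ.1
  rw [card_P7] at h2
  rw [h2, hc] at h1
  have h3 : 2 ^ (Nat.card σ.ker).factorization 2 ≤ 2 := by
    rw [mul_comm 2 4585351680] at h1
    exact Nat.le_of_mul_le_mul_left h1 (by norm_num : 0 < 4585351680)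
  by_contra hcon
  have h4 : 2 ≤ (Nat.card σ.ker).factorization 2 := by omega
  have h5 : 2 ^ 2 ≤ 2 ^ (Nat.card σ.ker).factorization 2 := Nat.pow_le_pow_right (by norm_num) h4
  omega

end Cfsg.Agent.Lib.Helper2.O73Mult
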