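import Cfsg.Agent.Lib.Helper2.O73Mult.Upper
import Cfsg.Agent.Lib.Helper2.O73Mult.Base
import Cfsg.Agent.Lib.Helper2.O73Mult.StMain
import Cfsg.Agent.Lib.Helper1.O73MultEX
import Cfsg.Agent.Lib.Helper17.O73MultTR
import Cfsg.Agent.Lib.Helper17.O73MultUT
import Cfsg.Agent.Lib.Helper13.SchurUpperCore
import Cfsg.Agent.Lib.Helper4.TC.O73Iso

/-!
# The Schur multiplier of `PΩ₇(3)` is cyclic of order 6 (assembly)

Existence: helper1's cover of order `6 |G|` (`exists_cover`).  Upper bound: the kernel of a finite stem extension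
has order dividing 6: no prime `r ≥ 5` divides it (`not_dvd_ker`), its 3-part is at most 3 (`fact3_le`, weak
presentation on the eight involutions) and its 2-part is at most 2 (`fact2_le`, Steinberg presentation on the
eighteen root elements).  Transport to `PΩ₇(F)`, `|F| = 3`, by helper4's isomorphism and helper17's transport.
-/

set_option autoImplicit false
set_option linter.unusedVariables false

namespace Cfsg.Agent.Lib.Helper2.O73Mult

open Cfsg Cfsg.Agent.Helper4.TC

theorem dvd_six_of (k : ℕ) (hk : k ≠ 0) (h2 : k.factorization 2 ≤ 1) (h3 : k.factorization 3 ≤ 1)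
    (hr : ∀ r : ℕ, r.Prime → r ≠ 2 → r ≠ 3 → ¬ r ∣ k) : k ∣ 6 := by
  rw [← Nat.factorization_le_iff_dvd hk (by norm_num)]
  have e6 : (6 : ℕ) = 2 * 3 := by norm_num
  have f62 : (6 : ℕ).factorization 2 = 1 := by
    rw [e6, Nat.factorization_mul (by norm_num) (by norm_num), Finsupp.add_apply,
      Nat.Prime.factorization_self Nat.prime_two,
      Nat.factorization_eq_zero_of_not_dvd (by norm_num : ¬ 2 ∣ 3)]
  have f63 : (6 : ℕ).factorization 3 = 1 := by
    rw [e6, Nat.factorization_mul (by norm_num) (by norm_num), Finsupp.add_apply,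
      Nat.Prime.factorization_self Nat.prime_three,
      Nat.factorization_eq_zero_of_not_dvd (by norm_num : ¬ 3 ∣ 2)]
  intro r
  by_cases hrp : r.Prime
  · by_cases hr2 : r = 2
    · rw [hr2, f62]; exact h2
    · by_cases hr3 : r = 3
      · rw [hr3, f63]; exact h3
      · rw [Nat.factorization_eq_zero_of_not_dvd (hr r hrp hr2 hr3)]
        exact Nat.zero_le _
  · rw [Nat.factorization_eq_zero_of_not_prime k hrp]
    exact Nat.zero_le _

theorem card_ker_dvd {Γ : Type} [Group Γ] [Finite Γ] (σ : Γ →* P7) (hσ : IsStemExtension σ) :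
    Nat.card σ.ker ∣ 6 :=
  dvd_six_of _ Nat.card_pos.ne' (fact2_le σ hσ) (fact3_le σ hσ) (fun r hr h2 h3 => not_dvd_ker σ hσ r hr h2 h3)

/-- an abelian group whose order divides 6 is cyclic -/
theorem isCyclic_of_card_dvd_six {K : Type*} [CommGroup K] [Finite K] (h : Nat.card K ∣ 6) : IsCyclic K := by
  have hle : Nat.card K ≤ 6 := Nat.le_of_dvd (by norm_num) h
  have hpos : 0 < Nat.card K := Nat.card_pos
  have hcases : Nat.card K = 1 ∨ Nat.card K = 2 ∨ Nat.card K = 3 ∨ Nat.card K = 6 := by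
    interval_cases hc : Nat.card K <;> simp_all <;> omega
  rcases hcases with h1 | h1 | h1 | h1
  · haveI : Subsingleton K := (Nat.card_eq_one_iff_unique.mp h1).1
    exact isCyclic_of_subsingleton
  · haveI : Fact (Nat.Prime 2) := ⟨Nat.prime_two⟩
    exact isCyclic_of_prime_card h1
  · haveI : Fact (Nat.Prime 3) := ⟨Nat.prime_three⟩
    exact isCyclic_of_prime_card h1
  · haveI : Fact (Nat.Prime 2) := ⟨Nat.prime_two⟩
    haveI : Fact (Nat.Prime 3) := ⟨Nat.prime_three⟩
    obtain ⟨a, ha⟩ := exists_prime_orderOf_dvd_card' (G := K) 2 (by rw [h1]; norm_num)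
    obtain ⟨b, hb⟩ := exists_prime_orderOf_dvd_card' (G := K) 3 (by rw [h1]; norm_num)
    have hab : orderOf (a * b) = 6 := by
      rw [(Commute.all a b).orderOf_mul_eq_mul_orderOf_of_coprime (by rw [ha, hb]; norm_num), ha, hb]
    exact isCyclic_of_orderOf_eq_card (a * b) (by rw [hab, h1])

theorem schur_P7 : HasCyclicSchurMultiplier P7 6 := by
  refine ⟨?_, fun Γ _ _ σ hσ => ?_⟩
  · obtain ⟨Γ, _, _, σ, hσ, ⟨e⟩⟩ := exists_cover
    obtain ⟨h1, ⟨e1⟩⟩ := Helper17.stem_transport σ hσ (MulEquiv.refl Γ) (ψEquiv.symm)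
    exact ⟨Γ, inferInstance, inferInstance, _, h1, ⟨e1.trans e⟩⟩
  · have hd := card_ker_dvd σ hσ
    letI : CommGroup σ.ker :=
      { (inferInstance : Group σ.ker) with
        mul_comm := fun a b => by
          have := Subgroup.mem_center_iff.mp (hσ.2.1 a.2) b.1
          exact Subtype.ext this.symm }
    haveI : IsCyclic σ.ker := isCyclic_of_card_dvd_six hd
    exact Cfsg.Agent.Lib.Helper13.SchurUpper.exists_surj_of_cyclic 6 hd

theorem schur_PO7 : HasCyclicSchurMultiplier (Cfsg.POmega (ZMod 3) (Cfsg.quadFormOdd 3 (ZMod 3))) 6 := by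
  obtain ⟨e⟩ := O73Iso.iso
  exact hasSchurMultiplier_of_mulEquiv e.symm schur_P7

theorem main {F : Type*} [Field F] [Fintype F] (hF : Fintype.card F = 3) :
    Cfsg.HasCyclicSchurMultiplier (Cfsg.POmega F (Cfsg.quadFormOdd 3 F)) 6 := by
  obtain ⟨e⟩ := pomega7_equiv hF
  haveI : Finite (Cfsg.POmega (ZMod 3) (Cfsg.quadFormOdd 3 (ZMod 3))) := by
    obtain ⟨e'⟩ := O73Iso.iso
    exact Finite.of_equiv P7 e'.toEquiv
  exact hasSchurMultiplier_of_mulEquiv e schur_PO7

end Cfsg.Agent.Lib.Helper2.O73Mult
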