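import Cfsg.Agent.Lib.Helper2.O73Mult.WAB
import Cfsg.Agent.Lib.Helper2.O73Mult.WBB
import Cfsg.Agent.Lib.Helper4.TC.Schur2
import Cfsg.Agent.Lib.Helper4.TC.O73PSMain
import Cfsg.Agent.Lib.Helper21.WeakL12

/-!
# The odd part of the multiplier of `PΩ₇(3)`: a stem extension with a 3-group kernel has order at most `6 |G|`

helper4's presentation of `G = PΩ₇(3)` is on eight involutions with Coxeter relators and two further relators.
When the kernel of a stem extension is a `3`-group, involutions lift uniquely to involutions, so the Coxeter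
relators hold exactly for the lifts, and only the two further relators become central.  The group with these weak
relators has order at most `728 * 729 * 51840 = 6 |G|` by two certified coset enumerations and helper4's bound
for the Coxeter group of type `E₆`.
-/

set_option autoImplicit false
set_option maxRecDepth 100000
set_option linter.unusedVariables false

namespace Cfsg.Agent.Lib.Helper2.O73Mult

open Cfsg Cfsg.Agent.Helper4.TC Cfsg.Agent.Helper4.TC.Schur

abbrev GenO : Type := Cfsg.Agent.Helper4.Pres.O73.Gen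
abbrev decO : ℕ → Letter GenO := O73PCod.dec
abbrev encO : GenO → ℕ := O73PCod.enc
abbrev R7 : Set (FreeGroup GenO) := O73PS.Rset
abbrev P7 : Type := PresentedGroup R7

/-- the Coxeter relators -/
def coxL : List (List ℕ) := O73PE6a.bases.take 64
/-- the two further relators -/
def centL : List (List ℕ) := O73PE6a.bases.drop 64
def gens8 : List (List ℕ) := [[0], [2], [4], [6], [8], [10], [12], [14]]
def gens7 : List (List ℕ) := [[0], [2], [4], [6], [8], [12], [14]]
def weakA : List (List ℕ) := coxL ++ weakify 0 gens8 centL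
def coxB : List (List ℕ) := coxL.filter fun r => !(r.contains 10)
def pwB : List (List ℕ) := coxB ++ [[10]]
def centB : List (List ℕ) := centL.take 1
def weakB : List (List ℕ) := pwB ++ weakify 0 gens7 centB

theorem coxL_sub : ∀ b ∈ coxL, b ∈ O73PE6a.bases := fun b hb => List.mem_of_mem_take hb
theorem centL_sub : ∀ b ∈ centL, b ∈ O73PE6a.bases := fun b hb => List.mem_of_mem_drop hb

theorem WA_bases_sub : ∀ b ∈ WA.bases, b ∈ weakA := by decide +kernel
theorem WB_bases_sub : ∀ b ∈ WB.bases, b ∈ weakB := by decide +kernel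

theorem boundA :
    Finite (PresentedGroup (relSet decO weakA) ⧸
      (Subgroup.closure (relSet decO WA.subsL)).map (PresentedGroup.mk (relSet decO weakA))) ∧
    Nat.card (PresentedGroup (relSet decO weakA) ⧸
      (Subgroup.closure (relSet decO WA.subsL)).map (PresentedGroup.mk (relSet decO weakA))) ≤ 728 :=
  tc_bound WA.data WA.bases WA.subsL WA.rots O73PCod.coding
    (fun b hb => mem_relSet weakA b (WA_bases_sub b hb)) (mem_relSet WA.subsL) WA.words_ok WA.allE WA.allM
    WA.M WA.n WA.fin0_ok (by decide) (by decide) WA.cnt_ok WA.rows_all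

theorem boundB :
    Finite (PresentedGroup (relSet decO weakB) ⧸
      (Subgroup.closure (relSet decO WB.subsL)).map (PresentedGroup.mk (relSet decO weakB))) ∧
    Nat.card (PresentedGroup (relSet decO weakB) ⧸
      (Subgroup.closure (relSet decO WB.subsL)).map (PresentedGroup.mk (relSet decO weakB))) ≤ 729 :=
  tc_bound WB.data WB.bases WB.subsL WB.rots O73PCod.coding
    (fun b hb => mem_relSet weakB b (WB_bases_sub b hb)) (mem_relSet WB.subsL) WB.words_ok WB.allE WB.allM
    WB.M WB.n WB.fin0_ok (by decide) (by decide) WB.cnt_ok WB.rows_all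

theorem cardB : Finite (PresentedGroup (relSet decO weakB)) ∧
    Nat.card (PresentedGroup (relSet decO weakB)) ≤ 729 * 51840 :=
  stage_bound (relSet decO weakB) (relSet decO O73PZ2.bases) (relSet decO WB.subsL) weakB O73PZ2.bases WB.subsL
    (fun x : GenO => decide (x ∈ ([.b, .c, .d, .e, .h, .i] : List GenO))) (mem_relSet _) (fun r hr => hr)
    (fun s hs => hs) (by decide +kernel) (by decide +kernel) 729 51840 boundB O73PS.card1


/-! ### Involution lifts -/

section Lifts

variable {Γ : Type} [Group Γ] [Finite Γ] (σ : Γ →* P7)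

theorem evc_congr {G : Type*} [Group G] (f f' : GenO → G) (w : List ℕ)
    (h : ∀ c ∈ w, f (decO c).1 = f' (decO c).1) : evc f decO w = evc f' decO w := by
  induction w with
  | nil => rfl
  | cons c cs ih =>
    rw [evc_cons, evc_cons, ih (fun c' hc' => h c' (List.mem_cons_of_mem _ hc'))]
    congr 1
    unfold gl
    rw [h c List.mem_cons_self]

/-- a product of two involutions whose image has order dividing 2 has order dividing 2 -/
theorem cox2 (hc : σ.ker ≤ Subgroup.center Γ) (hk : IsPGroup 3 σ.ker) (a b : Γ) (ha : a ^ 2 = 1)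
    (hb : b ^ 2 = 1) (h : σ (a * b * a * b) = 1) : a * b * a * b = 1 := by
  have ha' : a * a = 1 := by rw [← pow_two]; exact ha
  have hb' : b * b = 1 := by rw [← pow_two]; exact hb
  have h1 : (a * b * a) ^ 2 = 1 := by
    rw [pow_two]
    calc a * b * a * (a * b * a) = a * b * (a * a) * b * a := by group
      _ = 1 := by rw [ha', mul_one, mul_assoc a b b, hb', mul_one, ha']
  have h2 : σ (a * b * a) = σ b := by
    have : σ (a * b * a) * σ b = 1 := by rw [← map_mul]; exact h
    have hb2 : σ b * σ b = 1 := by rw [← map_mul, hb', map_one]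
    have e1 : σ (a * b * a) = (σ b)⁻¹ := eq_inv_of_mul_eq_one_left this
    have e2 : (σ b)⁻¹ = σ b := inv_eq_of_mul_eq_one_left hb2
    rw [e1, e2]
  have h3 : a * b * a = b :=
    Cfsg.Agent.Lib.Helper10.Weak.lift_unique σ hc hk (n := 2) (m := 2) (by decide) (by decide) h1 hb h2
  rw [h3, hb']

/-- a product of two involutions whose image has order dividing 3 has order dividing 3 -/
theorem cox3 (hc : σ.ker ≤ Subgroup.center Γ) (hk : IsPGroup 3 σ.ker) (a b : Γ) (ha : a ^ 2 = 1)
    (hb : b ^ 2 = 1) (h : σ (a * b * a * b * a * b) = 1) : a * b * a * b * a * b = 1 := by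
  have ha' : a * a = 1 := by rw [← pow_two]; exact ha
  have hb' : b * b = 1 := by rw [← pow_two]; exact hb
  have h1 : (a * b * a) ^ 2 = 1 := by
    rw [pow_two]
    calc a * b * a * (a * b * a) = a * b * (a * a) * b * a := by group
      _ = 1 := by rw [ha', mul_one, mul_assoc a b b, hb', mul_one, ha']
  have h1' : (b * a * b) ^ 2 = 1 := by
    rw [pow_two]
    calc b * a * b * (b * a * b) = b * a * (b * b) * a * b := by group
      _ = 1 := by rw [hb', mul_one, mul_assoc b a a, ha', mul_one, hb']
  have h2 : σ (a * b * a) = σ (b * a * b) := by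
    have h4 : σ (a * b * a) * σ (b * a * b) = 1 := by
      rw [← map_mul]
      have : a * b * a * (b * a * b) = a * b * a * b * a * b := by group
      rw [this]; exact h
    have h5 : σ (b * a * b) * σ (b * a * b) = 1 := by
      rw [← map_mul, ← pow_two, h1', map_one]
    have e1 : σ (a * b * a) = (σ (b * a * b))⁻¹ := eq_inv_of_mul_eq_one_left h4
    have e2 : (σ (b * a * b))⁻¹ = σ (b * a * b) := inv_eq_of_mul_eq_one_left h5
    rw [e1, e2]
  have h3 : a * b * a = b * a * b :=
    Cfsg.Agent.Lib.Helper10.Weak.lift_unique σ hc hk (n := 2) (m := 2) (by decide) (by decide) h1 h1' h2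
  have : a * b * a * b * a * b = (a * b * a) * (b * a * b) := by group
  rw [this, h3, ← pow_two, h1']

end Lifts

/-! ### The bound -/

section Main

variable {Γ : Type} [Group Γ] [Finite Γ] (σ : Γ →* P7)

theorem dec_enc' (x : GenO) : decO (encO x) = (x, true) := O73PCod.coding.dec_enc x

theorem evc_single {G : Type*} [Group G] (f : GenO → G) (x : GenO) : evc f decO [encO x] = f x := by
  rw [evc_cons, evc_nil, one_mul]
  unfold gl
  rw [dec_enc']
  rfl

theorem of_eq_mk' (x : GenO) : (PresentedGroup.of x : P7) = PresentedGroup.mk R7 (wordF decO [encO x]) := by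
  rw [← evc_of, evc_single]

theorem sq_mem (x : GenO) : [encO x, encO x] ∈ O73PE6a.bases := by
  cases x <;> decide

theorem of_sq (x : GenO) : (PresentedGroup.of x : P7) ^ 2 = 1 := by
  have h : PresentedGroup.mk R7 (wordF decO [encO x, encO x]) = 1 :=
    PresentedGroup.one_of_mem (O73PE6a.hR2 _ (sq_mem x))
  rw [← evc_of, evc_cons, evc_single] at h
  unfold gl at h
  rw [dec_enc'] at h
  rw [pow_two]
  exact h

/-- the shapes of the Coxeter relators -/
def shapeOK : List ℕ → Bool
  | [a, b] => a == b
  | [a, b, c, d] => a == c && b == d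
  | [a, b, c, d, e, f] => a == c && c == e && b == d && d == f
  | _ => false

theorem coxL_shape : coxL.all shapeOK = true := by decide

theorem gl_sq (g : GenO → Γ) (hg2 : ∀ x, g x ^ 2 = 1) (l : Letter GenO) : gl g l ^ 2 = 1 := by
  unfold gl
  split
  · exact hg2 _
  · rw [inv_pow, hg2, inv_one]

theorem hex_of (g : GenO → Γ) (hg : ∀ x, σ (g x) = PresentedGroup.of x) (hg2 : ∀ x, g x ^ 2 = 1)
    (hc : σ.ker ≤ Subgroup.center Γ) (hk : IsPGroup 3 σ.ker) : ∀ b ∈ coxL, evc g decO b = 1 := by
  intro b hb
  have hs : shapeOK b = true := List.all_eq_true.mp coxL_shape b hb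
  have hσ : σ (evc g decO b) = 1 := by
    rw [map_evc]
    have : (fun x => σ (g x)) = (PresentedGroup.of : GenO → P7) := funext hg
    rw [this, evc_of]
    exact PresentedGroup.one_of_mem (O73PE6a.hR2 b (coxL_sub b hb))
  match b, hs, hσ with
  | [c1, c2], hs, hσ =>
    have e : c1 = c2 := by simpa [shapeOK] using hs
    subst e
    rw [evc_cons, evc_cons, evc_nil, one_mul, ← pow_two]
    exact gl_sq g hg2 _
  | [c1, c2, c3, c4], hs, hσ =>
    have e : c1 = c3 ∧ c2 = c4 := by simpa [shapeOK] using hs
    obtain ⟨e1, e2⟩ := e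
    subst e1 e2
    rw [evc_cons, evc_cons, evc_cons, evc_cons, evc_nil, one_mul] at hσ ⊢
    exact cox2 σ hc hk _ _ (gl_sq g hg2 _) (gl_sq g hg2 _) hσ
  | [c1, c2, c3, c4, c5, c6], hs, hσ =>
    have e : (c1 = c3 ∧ c3 = c5) ∧ c2 = c4 ∧ c4 = c6 := by simpa [shapeOK, and_assoc] using hs
    obtain ⟨⟨e1, e2⟩, e3, e4⟩ := e
    subst e1 e2 e3 e4
    rw [evc_cons, evc_cons, evc_cons, evc_cons, evc_cons, evc_cons, evc_nil, one_mul] at hσ ⊢
    exact cox3 σ hc hk _ _ (gl_sq g hg2 _) (gl_sq g hg2 _) hσ
  | [], hs, _ => simp [shapeOK] at hs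
  | [_], hs, _ => simp [shapeOK] at hs
  | [_, _, _], hs, _ => simp [shapeOK] at hs
  | [_, _, _, _, _], hs, _ => simp [shapeOK] at hs
  | _ :: _ :: _ :: _ :: _ :: _ :: _ :: _, hs, _ => simp [shapeOK] at hs

/-- the words of the subgroup generators -/
def ups : GenO → List ℕ
  | .g => []
  | k => [encO k]

theorem noG_coxB : ∀ b ∈ coxB, ∀ c ∈ b, (decO c).1 ≠ (.g : GenO) := by decide +kernel
theorem noG_centB : ∀ b ∈ centB, ∀ c ∈ b, (decO c).1 ≠ (.g : GenO) := by decide +kernel
theorem coxB_sub : ∀ b ∈ coxB, b ∈ coxL := fun b hb => List.mem_of_mem_filter hb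
theorem centB_sub : ∀ b ∈ centB, b ∈ centL := fun b hb => List.mem_of_mem_take hb

theorem evc_ups {G : Type*} [Group G] (f : GenO → G) (k : GenO) (hk : k ≠ (.g : GenO)) :
    evc f decO (ups k) = f k := by
  cases k <;> first | exact absurd rfl hk | exact evc_single f _

/-- a stem extension of `PΩ₇(3)` with a `3`-group kernel has order at most `6 |G|` -/
theorem card_le_of_three (hσ : IsStemExtension σ) (hk : IsPGroup 3 σ.ker) :
    Nat.card Γ ≤ 728 * (729 * 51840) := by
  classical
  have hex1 : ∀ x : GenO, ∃ y : Γ, σ y = PresentedGroup.of x ∧ y ^ 2 = 1 := fun x =>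
    Cfsg.Agent.Lib.Helper10.Weak.exists_lift_pow_eq_one σ hσ.1 hk (PresentedGroup.of x) (by decide) (of_sq x)
  choose g hg hg2 using hex1
  have hex := hex_of σ g hg hg2 hσ.2.1 hk
  refine card_le_of_weak O73PCod.coding σ hσ 0 (fun _ _ => pow_zero _) g hg coxL centL gens8 WA.subsL hex
    (fun ρ hρ => O73PE6a.hR2 ρ (centL_sub ρ hρ)) 728 boundA O73PCod.coding pwB centB gens7 (729 * 51840) cardB
    ups ?_ ?_ ?_
  · intro s hs
    simp only [WA.subsL, List.mem_cons, List.not_mem_nil, or_false] at hs
    rcases hs with rfl | rfl | rfl | rfl | rfl | rfl | rfl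
    · exact ⟨.b, rfl⟩
    · exact ⟨.c, rfl⟩
    · exact ⟨.d, rfl⟩
    · exact ⟨.e, rfl⟩
    · exact ⟨.f, rfl⟩
    · exact ⟨.h, rfl⟩
    · exact ⟨.i, rfl⟩
  · intro b hb
    rcases List.mem_append.mp hb with h | h
    · rw [evc_congr (fun k => evc g decO (ups k)) g b
        (fun c hc => evc_ups g _ (noG_coxB b h c hc))]
      exact hex b (coxB_sub b h)
    · rw [List.mem_singleton.mp h]
      have e10 : ([10] : List ℕ) = [encO .g] := by decide
      rw [e10, evc_single]
      rfl
  · intro ρ hρ
    rw [evc_congr (fun k => PresentedGroup.mk R7 (wordF decO (ups k))) (PresentedGroup.of : GenO → P7) ρ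
      (fun c hc => by
        have hne := noG_centB ρ hρ c hc
        rw [← evc_of, evc_ups _ _ hne])]
    rw [evc_of]
    exact PresentedGroup.one_of_mem (O73PE6a.hR2 ρ (centL_sub ρ (centB_sub ρ hρ)))

end Main

end Cfsg.Agent.Lib.Helper2.O73Mult
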