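import Cfsg.Agent.Lib.Helper2.O73Mult.StData
import Cfsg.Agent.Lib.Helper2.O73Mult.Base
import Cfsg.Agent.Lib.Helper2.O73Cls.Chk
import Cfsg.Agent.Lib.Helper1.WeakL11

/-!
# The Steinberg relations in the presented group `P` of order 4585351680

The eighteen root elements are words in the eight generators; their images under helper4's faithful permutation
representation on 364 points are given by tables, and all relations are checked on the tables.
-/

set_option autoImplicit false
set_option maxRecDepth 100000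
set_option linter.unusedVariables false

namespace Cfsg.Agent.Lib.Helper2.O73Mult

open Cfsg Cfsg.H5.TCk Cfsg.Agent.Lib.Helper28.BSGS Cfsg.Agent.Lib.Helper2.O73Cls
open Cfsg.Agent.Helper4.TC hiding gl ev ev_append
open Cfsg.Agent.Lib.Helper10.Weak

/-- the root elements in the presented group -/
noncomputable def γ (i : ℕ) : P :=
  PresentedGroup.mk O73PE6a.Rset (wordF O73PE6a.dec (StD.wdL.getD i []))

/-- the tables of the root elements -/
def Tb (i : ℕ) : ℕ × ℕ := StD.TL.getD i (0, 0)

/-- the root elements as permutations -/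
def Pm (i : ℕ) : Equiv.Perm (Fin 364) := permOf 364 9 (Tb i).1 (Tb i).2

theorem TL_ok : gensOK 364 9 StD.TL = true := by decide +kernel

theorem TL_length : StD.TL.length = 18 := by decide

theorem wdL_length : StD.wdL.length = 18 := by decide

theorem Tb_ok {i : ℕ} (hi : i < 18) : pairOK 364 9 (Tb i).1 (Tb i).2 = true := by
  apply gensOK_spec 364 9 TL_ok
  unfold Tb
  have h : i < StD.TL.length := by rw [TL_length]; exact hi
  rw [List.getD_eq_getElem _ _ h]
  exact List.getElem_mem h

theorem wd_ok : ∀ i, i < 18 → (∀ c ∈ StD.wdL.getD i [], c < O73PE6a.mdata.nc) ∧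
    ∀ k, k < 364 → mtrace O73PE6a.mdata (StD.wdL.getD i []) k = look 9 (Tb i).1 k := by
  have h : ((List.range 18).all fun i =>
      (StD.wdL.getD i []).all (fun c => decide (c < O73PE6a.mdata.nc)) &&
        (List.range 364).all fun k =>
          mtrace O73PE6a.mdata (StD.wdL.getD i []) k == look 9 (Tb i).1 k) = true := by
    decide +kernel
  intro i hi
  rw [List.all_eq_true] at h
  have h1 := h i (List.mem_range.mpr hi)
  rw [Bool.and_eq_true, List.all_eq_true, List.all_eq_true] at h1
  refine ⟨fun c hc => of_decide_eq_true (h1.1 c hc), fun k hk => ?_⟩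
  exact beq_iff_eq.mp (h1.2 k (List.mem_range.mpr hk))

theorem ψ_γ (i : ℕ) : ψ (γ i) = Pm i := by
  by_cases hi : i < 18
  · apply Equiv.ext
    intro k
    apply Fin.ext
    unfold Pm
    rw [permOf_apply (Tb_ok hi)]
    have h := modelHom_word O73PE6a.coding O73PE6a.hR1 O73PE6a.model_ok (StD.wdL.getD i [])
      (wd_ok i hi).1 k
    exact h.trans ((wd_ok i hi).2 k.val k.isLt)
  · have h1 : StD.wdL.getD i [] = [] := List.getD_eq_default _ _ (by rw [wdL_length]; omega)
    have h2 : Tb i = (0, 0) := List.getD_eq_default _ _ (by rw [TL_length]; omega)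
    unfold γ Pm
    rw [h1, h2, permOf_zero]
    have : wordF O73PE6a.dec [] = 1 := rfl
    rw [this]
    exact map_one ψ

/-- the table of a letter -/
def ltab (l : ℕ) : ℕ := if l % 2 = 0 then (Tb (l / 2)).1 else (Tb (l / 2)).2

theorem gl_Pm_acts {l : ℕ} (hl : l < 36) (a : Fin 364) : (gl Pm l a).val = look 9 (ltab l) a.val := by
  unfold gl ltab
  have h : l / 2 < 18 := by omega
  by_cases h2 : l % 2 = 0
  · simp only [h2, if_true]
    exact permOf_apply (Tb_ok h) a
  · simp only [h2, if_false]
    exact permOf_inv_apply (Tb_ok h) a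

theorem acts_ev (w : List ℕ) (hw : ∀ l ∈ w, l < 36) : ActsByW 364 9 (ev Pm w) (w.map ltab) := by
  induction w with
  | nil => exact actsByW_one 364 9
  | cons l w ih =>
    rw [List.map_cons]
    show ActsByW 364 9 (gl Pm l * ev Pm w) _
    exact actsByW_cons (gl_Pm_acts (hw l List.mem_cons_self))
      (ih fun l' hl' => hw l' (List.mem_cons_of_mem _ hl'))

theorem ψ_ev (w : List ℕ) : ψ (ev γ w) = ev Pm w := by
  rw [Cfsg.H5.StemTC.map_ev]
  have : (fun i => ψ (γ i)) = Pm := funext ψ_γ
  rw [this]

/-- the check that a word in the root elements is trivial -/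
def okW (w : List ℕ) : Bool := w.all (fun l => decide (l < 36)) && wordId 364 9 (w.map ltab)

theorem ev_γ_of_okW (w : List ℕ) (h : okW w = true) : ev γ w = 1 := by
  unfold okW at h
  rw [Bool.and_eq_true, List.all_eq_true] at h
  apply ψ_injective
  rw [map_one, ψ_ev]
  exact eq_one_of_wordId 364 9 (acts_ev w fun l hl => of_decide_eq_true (h.1 l hl)) h.2

theorem cube_chk : ((List.range 18).all fun i => okW (cubeWord i)) = true := by decide +kernel

theorem γ_cube (i : ℕ) : γ i ^ 3 = 1 := by
  by_cases hi : i < 18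
  · have h := cube_chk
    rw [List.all_eq_true] at h
    rw [← ev_cubeWord]
    exact ev_γ_of_okW _ (h i (List.mem_range.mpr hi))
  · have h1 : StD.wdL.getD i [] = [] := List.getD_eq_default _ _ (by rw [wdL_length]; omega)
    unfold γ
    rw [h1]
    have : wordF O73PE6a.dec [] = 1 := rfl
    rw [this]
    exact one_pow 3

theorem rel_chk : (StD.stData.all fun r => okW (stWord r) && okW (commWord r.b r.c) &&
    okW (commWord r.b r.d) && okW (commWord r.c r.d)) = true := by decide +kernel

theorem γ_rel : ∀ r ∈ StD.stData, ev γ (stWord r) = 1 ∧ ev γ (commWord r.b r.c) = 1 ∧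
    ev γ (commWord r.b r.d) = 1 ∧ ev γ (commWord r.c r.d) = 1 := by
  intro r hr
  have h := rel_chk
  rw [List.all_eq_true] at h
  have h1 := h r hr
  simp only [Bool.and_eq_true] at h1
  exact ⟨ev_γ_of_okW _ h1.1.1.1, ev_γ_of_okW _ h1.1.1.2, ev_γ_of_okW _ h1.1.2, ev_γ_of_okW _ h1.2⟩

theorem gen_chk : ∀ x : Gen, ((StD.genW.getD (idx x) []).all (fun l => decide (l < 36)) &&
    (List.range 364).all fun a =>
      evalW 9 ((StD.genW.getD (idx x) []).map ltab) a == look 9 (T364 x).1 a) = true := by
  intro x
  cases x <;> decide +kernel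

theorem of_eq_ev (x : Gen) : (PresentedGroup.of x : P) = ev γ (StD.genW.getD (idx x) []) := by
  have h := gen_chk x
  rw [Bool.and_eq_true, List.all_eq_true, List.all_eq_true] at h
  apply ψ_injective
  rw [ψ_ev, ψ_of]
  apply Equiv.ext
  intro a
  apply Fin.ext
  rw [permOf_apply (T364_ok x), acts_ev _ (fun l hl => of_decide_eq_true (h.1 l hl)) a]
  exact (beq_iff_eq.mp (h.2 a.val (List.mem_range.mpr a.isLt))).symm

theorem γ_gen : Subgroup.closure (Set.range fun i : Fin 18 => γ i.val) = ⊤ := by
  rw [eq_top_iff, ← PresentedGroup.closure_range_of O73PE6a.Rset, Subgroup.closure_le]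
  rintro _ ⟨x, rfl⟩
  rw [of_eq_ev x]
  have h := gen_chk x
  rw [Bool.and_eq_true] at h
  exact ev_mem_closure γ 18 _ h.1

end Cfsg.Agent.Lib.Helper2.O73Mult
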