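import Mathlib
import Cfsg.Prelude.Def_KGroupFacts
import Cfsg.Agent.H5.StemTC
import Cfsg.Agent.H5.TCk2Main
import Cfsg.Agent.Lib.Helper21.WeakL12
import Cfsg.Agent.Lib.Helper17.WeakL6
import Cfsg.Agent.Lib.Helper1.WeakL3

/-!
# Steinberg relations lift exactly to a central extension with a 2-group kernel

Elements of order 3 lift uniquely to elements of order 3 when the kernel is a central 2-group.  A relation
`X_a⁻¹ X_b X_a = X_b X_c^e X_d^f` between elements of order 3 in which `X_b, X_c, X_d` commute pairwise therefore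
holds for the lifts as soon as it holds for the images.  Also: the bound of helper5's fast Todd–Coxeter checker for
the subgroup generated by elements which satisfy the relators, and shifting of the generator numbering.
-/

set_option autoImplicit false
set_option linter.unusedVariables false

namespace Cfsg.Agent.Lib.Helper2.O73Mult

open Cfsg Cfsg.H5.TCk Cfsg.Agent.Lib.Helper10.Weak

universe u v

/-- a relation `X_a⁻¹ X_b X_a = X_b X_c^e X_d^f` -/
structure StRel where
  a : ℕ
  b : ℕ
  c : ℕ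
  e : ℕ
  d : ℕ
  f : ℕ
  deriving DecidableEq

/-- the relator of a relation -/
def stWord (r : StRel) : List ℕ :=
  [2 * r.a + 1, 2 * r.b, 2 * r.a] ++
    (List.replicate r.f (2 * r.d + 1) ++ (List.replicate r.e (2 * r.c + 1) ++ [2 * r.b + 1]))

/-- the commutator word -/
def commWord (x y : ℕ) : List ℕ := [2 * x, 2 * y, 2 * x + 1, 2 * y + 1]

/-- the cube word -/
def cubeWord (x : ℕ) : List ℕ := [2 * x, 2 * x, 2 * x]

section Words

variable {Γ : Type u} [Group Γ]

theorem ev_stWord (X : ℕ → Γ) (r : StRel) :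
    ev X (stWord r) =
      (X r.a)⁻¹ * X r.b * X r.a * ((X r.d)⁻¹ ^ r.f * ((X r.c)⁻¹ ^ r.e * (X r.b)⁻¹)) := by
  unfold stWord
  rw [ev_append, ev_append, ev_append, Helper1.ev_replicate, Helper1.ev_replicate]
  simp only [ev, Helper1.gl_odd, Helper1.gl_even, mul_one, mul_assoc]

theorem ev_commWord (X : ℕ → Γ) (x y : ℕ) :
    ev X (commWord x y) = X x * X y * (X x)⁻¹ * (X y)⁻¹ := by
  unfold commWord
  simp only [ev, Helper1.gl_odd, Helper1.gl_even, mul_one, mul_assoc]

theorem ev_cubeWord (X : ℕ → Γ) (x : ℕ) : ev X (cubeWord x) = X x ^ 3 := by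
  unfold cubeWord
  simp only [ev, Helper1.gl_even, mul_one]
  rw [pow_succ, pow_two, mul_assoc]

theorem commute_of_ev_commWord (X : ℕ → Γ) (x y : ℕ) (h : ev X (commWord x y) = 1) :
    Commute (X x) (X y) := by
  rw [ev_commWord] at h
  show X x * X y = X y * X x
  calc X x * X y = (X x * X y * (X x)⁻¹ * (X y)⁻¹) * (X y * X x) := by group
    _ = X y * X x := by rw [h, one_mul]

theorem gl_shift (X : ℕ → Γ) (o l : ℕ) : gl (fun i => X (i + o)) l = gl X (l + 2 * o) := by
  unfold gl
  have h1 : (l + 2 * o) % 2 = l % 2 := by omega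
  have h2 : (l + 2 * o) / 2 = l / 2 + o := by omega
  rw [h1, h2]

theorem ev_shift (X : ℕ → Γ) (o : ℕ) (w : List ℕ) :
    ev (fun i => X (i + o)) w = ev X (w.map (· + 2 * o)) := by
  induction w with
  | nil => rfl
  | cons l w ih =>
    rw [List.map_cons]
    show gl (fun i => X (i + o)) l * ev (fun i => X (i + o)) w = gl X (l + 2 * o) * ev X (w.map (· + 2 * o))
    rw [ih, gl_shift]

end Words

section Lift

variable {Γ : Type u} {G : Type v} [Group Γ] [Group G] (σ : Γ →* G)

/-- lifts of order 3 of commuting elements commute -/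
theorem comm_lift (hc : σ.ker ≤ Subgroup.center Γ) (hk : IsPGroup 2 σ.ker) {x y : Γ} (hx : x ^ 3 = 1)
    (h : Commute (σ x) (σ y)) : Commute x y := by
  have h1 : (y⁻¹ * x * y) ^ 3 = 1 := by
    have := conj_pow (a := y⁻¹) (b := x) (i := 3)
    rw [inv_inv] at this
    rw [this, hx, mul_one, inv_mul_cancel]
  have h2 : σ (y⁻¹ * x * y) = σ x := by
    rw [map_mul, map_mul, map_inv, mul_assoc, h.eq, ← mul_assoc, inv_mul_cancel, one_mul]
  have h3 := lift_unique σ hc hk (n := 3) (m := 3) (by decide) (by decide) h1 hx h2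
  show x * y = y * x
  calc x * y = y * (y⁻¹ * x * y) := by group
    _ = y * x := by rw [h3]

/-- a Steinberg relation lifts -/
theorem st_lift (hc : σ.ker ≤ Subgroup.center Γ) (hk : IsPGroup 2 σ.ker) {A B C D : Γ} (e f : ℕ)
    (hB : B ^ 3 = 1) (hC : C ^ 3 = 1) (hD : D ^ 3 = 1)
    (hBC : Commute (σ B) (σ C)) (hBD : Commute (σ B) (σ D)) (hCD : Commute (σ C) (σ D))
    (h : σ (A⁻¹ * B * A) = σ (B * C ^ e * D ^ f)) : A⁻¹ * B * A = B * C ^ e * D ^ f := by
  have cBC := comm_lift σ hc hk hB hBC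
  have cBD := comm_lift σ hc hk hB hBD
  have cCD := comm_lift σ hc hk hC hCD
  have h1 : (A⁻¹ * B * A) ^ 3 = 1 := by
    have := conj_pow (a := A⁻¹) (b := B) (i := 3)
    rw [inv_inv] at this
    rw [this, hB, mul_one, inv_mul_cancel]
  have h2 : (B * C ^ e * D ^ f) ^ 3 = 1 := by
    have c1 : Commute B (C ^ e) := cBC.pow_right e
    have c2 : Commute (B * C ^ e) (D ^ f) := (cBD.pow_right f).mul_left ((cCD.pow_right f).pow_left e)
    rw [c2.mul_pow, c1.mul_pow, hB, ← pow_mul, ← pow_mul, mul_comm e 3, mul_comm f 3, pow_mul, pow_mul,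
      hC, hD, one_pow, one_pow, one_mul, one_mul]
  exact lift_unique σ hc hk (n := 3) (m := 3) (by decide) (by decide) h1 h2 h

/-- the relator of a Steinberg relation holds for lifts of order 3 when it holds for the images and the images
of `X_b, X_c, X_d` commute pairwise -/
theorem ev_stWord_lift (hc : σ.ker ≤ Subgroup.center Γ) (hk : IsPGroup 2 σ.ker) (X : ℕ → Γ)
    (h3 : ∀ i, X i ^ 3 = 1) (r : StRel)
    (hw : ev (fun i => σ (X i)) (stWord r) = 1)
    (hbc : ev (fun i => σ (X i)) (commWord r.b r.c) = 1)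
    (hbd : ev (fun i => σ (X i)) (commWord r.b r.d) = 1)
    (hcd : ev (fun i => σ (X i)) (commWord r.c r.d) = 1) : ev X (stWord r) = 1 := by
  have hBC := commute_of_ev_commWord _ _ _ hbc
  have hBD := commute_of_ev_commWord _ _ _ hbd
  have hCD := commute_of_ev_commWord _ _ _ hcd
  have hinv : ∀ (B C D : G) (e f : ℕ), D⁻¹ ^ f * (C⁻¹ ^ e * B⁻¹) = (B * C ^ e * D ^ f)⁻¹ := by
    intro B C D e f
    rw [mul_inv_rev, mul_inv_rev, inv_pow, inv_pow]
  have hinv' : ∀ (B C D : Γ) (e f : ℕ), D⁻¹ ^ f * (C⁻¹ ^ e * B⁻¹) = (B * C ^ e * D ^ f)⁻¹ := by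
    intro B C D e f
    rw [mul_inv_rev, mul_inv_rev, inv_pow, inv_pow]
  have himg : σ ((X r.a)⁻¹ * X r.b * X r.a) = σ (X r.b * X r.c ^ r.e * X r.d ^ r.f) := by
    rw [ev_stWord, hinv] at hw
    simp only [map_mul, map_inv, map_pow]
    exact mul_inv_eq_one.mp hw
  have key := st_lift σ hc hk r.e r.f (h3 r.b) (h3 r.c) (h3 r.d) hBC hBD hCD himg
  rw [ev_stWord, hinv', key, mul_inv_cancel]

end Lift

/-! ### the fast checker inside the subgroup generated by the elements -/

/-- helper17's `card_closure_le` for helper5's fast checker -/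
theorem card_closure_le2 {Γ : Type u} [Group Γ] (γh : ℕ → Γ) (t : ℕ) (rels : List (List ℕ))
    (hl : ∀ r ∈ rels, r.all (fun l => decide (l < 2 * t)) = true)
    (hrels : ∀ r ∈ rels, ev γh r = 1) (sgens : List (List ℕ))
    (hsl : ∀ g ∈ sgens, g.all (fun l => decide (l < 2 * t)) = true) (K : Subgroup Γ) [Finite K]
    (hK : ∀ g ∈ sgens, ev γh g ∈ K) (W F ncos bound : ℕ) (defs : List (ℕ × ℕ))
    (log : List ℕ) (hchk : Cfsg.H5.TCk2.checkS W F (2 * t) ncos bound defs rels sgens log = true) :
    Finite (Subgroup.closure (Set.range fun i : Fin t => γh i.val)) ∧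
      Nat.card (Subgroup.closure (Set.range fun i : Fin t => γh i.val)) ≤ bound * Nat.card K := by
  classical
  generalize hMdef : Subgroup.closure (Set.range fun i : Fin t => γh i.val) = M
  have hγM : ∀ i < t, γh i ∈ M := by
    intro i hi
    rw [← hMdef]
    exact Subgroup.subset_closure ⟨⟨i, hi⟩, rfl⟩
  let γm : ℕ → M := fun i => if h : i < t then ⟨γh i, hγM i h⟩ else 1
  have hγm : ∀ i < t, ((γm i : M) : Γ) = γh i := by
    intro i hi
    simp only [γm, dif_pos hi]
  have hev : ∀ w : List ℕ, w.all (fun l => decide (l < 2 * t)) = true →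
      ((ev γm w : M) : Γ) = ev γh w := by
    intro w hw
    have h1 : ((ev γm w : M) : Γ) = ev (fun i => ((γm i : M) : Γ)) w :=
      Cfsg.H5.StemTC.map_ev M.subtype γm w
    rw [h1]
    exact Helper17.ev_congr_lt _ _ t (fun i hi => hγm i hi) w hw
  have hgenM : Subgroup.closure (Set.range fun i : Fin t => γm i.val) = ⊤ := by
    apply Subgroup.map_injective M.subtype_injective
    have h1 : (⊤ : Subgroup M).map M.subtype = M := by
      rw [← MonoidHom.range_eq_map, Subgroup.range_subtype]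
    rw [h1, MonoidHom.map_closure]
    have himg : (⇑M.subtype '' Set.range fun i : Fin t => γm i.val) =
        Set.range fun i : Fin t => γh i.val := by
      ext x
      constructor
      · rintro ⟨_, ⟨i, rfl⟩, rfl⟩
        exact ⟨i, (hγm i.val i.isLt).symm⟩
      · rintro ⟨i, rfl⟩
        exact ⟨γm i.val, ⟨i, rfl⟩, hγm i.val i.isLt⟩
    rw [himg]
    exact hMdef
  have hrelM : ∀ r ∈ rels, ev γm r = 1 := by
    intro r hr
    apply Subtype.ext
    rw [hev r (hl r hr), hrels r hr]
    rfl
  have hsgM : ∀ g ∈ sgens, ev γm g ∈ K.subgroupOf M := by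
    intro g hg
    rw [Subgroup.mem_subgroupOf, hev g (hsl g hg)]
    exact hK g hg
  have hinj : Function.Injective
      (fun x : K.subgroupOf M => (⟨(x.1 : Γ), Subgroup.mem_subgroupOf.mp x.2⟩ : K)) := by
    intro x y hxy
    apply Subtype.ext
    apply Subtype.ext
    have h2 : ((x.1 : M) : Γ) = ((y.1 : M) : Γ) := congrArg (fun z : K => (z : Γ)) hxy
    exact h2
  haveI : Finite (K.subgroupOf M) := Finite.of_injective _ hinj
  obtain ⟨hfin, hfinal⟩ := Cfsg.H5.TCk2.tc_bound (K.subgroupOf M) γm defs rels sgens W F t ncos bound log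
    hrelM hsgM hgenM hchk
  have hKle : Nat.card (K.subgroupOf M) ≤ Nat.card K := Nat.card_le_card_of_injective _ hinj
  exact ⟨hfin, le_trans hfinal (Nat.mul_le_mul_left _ hKle)⟩

/-- one step of a chain of subgroups generated by final segments of the generators -/
theorem chain_step {Γ : Type u} [Group Γ] [Finite Γ] (X : ℕ → Γ) (o d t' : ℕ) (rels0 rels : List (List ℕ))
    (h0 : ∀ r ∈ rels0, ev X r = 1)
    (hsub : ∀ r ∈ rels, r.map (· + 2 * o) ∈ rels0)
    (hl : ∀ r ∈ rels, r.all (fun l => decide (l < 2 * (d + t'))) = true)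
    (sgens : List (List ℕ))
    (hsg0 : sgens = (List.range t').map fun j => [2 * (j + d)])
    (W F ncos bound : ℕ) (defs : List (ℕ × ℕ)) (log : List ℕ)
    (hchk : Cfsg.H5.TCk2.checkS W F (2 * (d + t')) ncos bound defs rels sgens log = true) :
    Nat.card (Subgroup.closure (Set.range fun i : Fin (d + t') => X (i.val + o))) ≤
      bound * Nat.card (Subgroup.closure (Set.range fun i : Fin t' => X (i.val + (o + d)))) := by
  have hsg : ∀ g ∈ sgens, ∃ j, j < t' ∧ g = [2 * (j + d)] := by
    intro g hg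
    rw [hsg0] at hg
    obtain ⟨j, hj, rfl⟩ := List.mem_map.mp hg
    exact ⟨j, List.mem_range.mp hj, rfl⟩
  refine (card_closure_le2 (fun i => X (i + o)) (d + t') rels hl ?_ sgens ?_
    (Subgroup.closure (Set.range fun i : Fin t' => X (i.val + (o + d)))) ?_ W F ncos bound defs log hchk).2
  · intro r hr
    rw [ev_shift]
    exact h0 _ (hsub r hr)
  · intro g hg
    obtain ⟨j, hj, rfl⟩ := hsg g hg
    simp only [List.all_cons, List.all_nil, Bool.and_true, decide_eq_true_eq]
    omega
  · intro g hg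
    obtain ⟨j, hj, rfl⟩ := hsg g hg
    have : ev (fun i => X (i + o)) [2 * (j + d)] = X (j + (o + d)) := by
      simp only [ev, Helper1.gl_even, mul_one]
      congr 1
      omega
    rw [this]
    exact Subgroup.subset_closure ⟨⟨j, hj⟩, rfl⟩

end Cfsg.Agent.Lib.Helper2.O73Mult
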