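import Cfsg.Agent.Lib.Helper2.O73Mult.WAD
import Cfsg.Agent.Lib.Helper4.TC.Strict

set_option autoImplicit false
set_option maxRecDepth 100000
set_option linter.unusedVariables false
set_option Elab.async false

namespace Cfsg.Agent.Lib.Helper2.O73Mult.WA

open Cfsg.Agent.Helper4.TC

theorem e15_c0 : edgeRange data 15 1024 0 = true := edgeRange_strict data 15 1024 0 (by decide +kernel)
theorem e15_c1 : edgeRange data 15 1024 1024 = true := edgeRange_strict data 15 1024 1024 (by decide +kernel)
theorem e15_c2 : edgeRange data 15 111 2048 = true := edgeRange_strict data 15 111 2048 (by decide +kernel)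
theorem e15_c3 : edgeRange data 15 1937 2159 = true := edgeRange_strict data 15 1937 2159 (by decide +kernel)

end Cfsg.Agent.Lib.Helper2.O73Mult.WA
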