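import Cfsg.Agent.Lib.Helper4.TC.Perm
import Cfsg.Agent.Lib.Helper4.TC.O73PCod
import Cfsg.Agent.Lib.Helper2.O73Mult.WAFin
import Cfsg.Agent.Lib.Helper2.O73Mult.WACM0
import Cfsg.Agent.Lib.Helper2.O73Mult.WACE0x0
import Cfsg.Agent.Lib.Helper2.O73Mult.WACE1x0
import Cfsg.Agent.Lib.Helper2.O73Mult.WACE2x0
import Cfsg.Agent.Lib.Helper2.O73Mult.WACE3x0
import Cfsg.Agent.Lib.Helper2.O73Mult.WACE4x0
import Cfsg.Agent.Lib.Helper2.O73Mult.WACE5x0
import Cfsg.Agent.Lib.Helper2.O73Mult.WACE6x0
import Cfsg.Agent.Lib.Helper2.O73Mult.WACE7x0
import Cfsg.Agent.Lib.Helper2.O73Mult.WACE8x0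
import Cfsg.Agent.Lib.Helper2.O73Mult.WACE9x0
import Cfsg.Agent.Lib.Helper2.O73Mult.WACE10x0
import Cfsg.Agent.Lib.Helper2.O73Mult.WACE11x0
import Cfsg.Agent.Lib.Helper2.O73Mult.WACE12x0
import Cfsg.Agent.Lib.Helper2.O73Mult.WACE13x0
import Cfsg.Agent.Lib.Helper2.O73Mult.WACE14x0
import Cfsg.Agent.Lib.Helper2.O73Mult.WACE15x0
import Cfsg.Agent.Lib.Helper2.O73Mult.WACF0

set_option autoImplicit false
set_option maxRecDepth 100000
set_option linter.unusedVariables false

namespace Cfsg.Agent.Lib.Helper2.O73Mult.WA

open Cfsg.Agent.Helper4.TC

theorem allE0 : ∀ k, k < 4096 → justE data 0 k = true := by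
  intro k hk
  by_cases hh1 : k < 2048
  · skip
    by_cases hh2 : k < 1024
    · skip
      exact edgeRange_sound data 0 1024 0 e0_c0 k (by omega) (by omega)
    · skip
      exact edgeRange_sound data 0 1024 1024 e0_c1 k (by omega) (by omega)
  · skip
    by_cases hh3 : k < 2159
    · skip
      exact edgeRange_sound data 0 111 2048 e0_c2 k (by omega) (by omega)
    · skip
      exact edgeRange_sound data 0 1937 2159 e0_c3 k (by omega) (by omega)

theorem allE1 : ∀ k, k < 4096 → justE data 1 k = true := by
  intro k hk
  by_cases hh1 : k < 2048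
  · skip
    by_cases hh2 : k < 1024
    · skip
      exact edgeRange_sound data 1 1024 0 e1_c0 k (by omega) (by omega)
    · skip
      exact edgeRange_sound data 1 1024 1024 e1_c1 k (by omega) (by omega)
  · skip
    by_cases hh3 : k < 2159
    · skip
      exact edgeRange_sound data 1 111 2048 e1_c2 k (by omega) (by omega)
    · skip
      exact edgeRange_sound data 1 1937 2159 e1_c3 k (by omega) (by omega)

theorem allE2 : ∀ k, k < 4096 → justE data 2 k = true := by
  intro k hk
  by_cases hh1 : k < 2048
  · skip
    by_cases hh2 : k < 1024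
    · skip
      exact edgeRange_sound data 2 1024 0 e2_c0 k (by omega) (by omega)
    · skip
      exact edgeRange_sound data 2 1024 1024 e2_c1 k (by omega) (by omega)
  · skip
    by_cases hh3 : k < 2159
    · skip
      exact edgeRange_sound data 2 111 2048 e2_c2 k (by omega) (by omega)
    · skip
      exact edgeRange_sound data 2 1937 2159 e2_c3 k (by omega) (by omega)

theorem allE3 : ∀ k, k < 4096 → justE data 3 k = true := by
  intro k hk
  by_cases hh1 : k < 2048
  · skip
    by_cases hh2 : k < 1024
    · skip
      exact edgeRange_sound data 3 1024 0 e3_c0 k (by omega) (by omega)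
    · skip
      exact edgeRange_sound data 3 1024 1024 e3_c1 k (by omega) (by omega)
  · skip
    by_cases hh3 : k < 2159
    · skip
      exact edgeRange_sound data 3 111 2048 e3_c2 k (by omega) (by omega)
    · skip
      exact edgeRange_sound data 3 1937 2159 e3_c3 k (by omega) (by omega)

theorem allE4 : ∀ k, k < 4096 → justE data 4 k = true := by
  intro k hk
  by_cases hh1 : k < 2048
  · skip
    by_cases hh2 : k < 1024
    · skip
      exact edgeRange_sound data 4 1024 0 e4_c0 k (by omega) (by omega)
    · skip
      exact edgeRange_sound data 4 1024 1024 e4_c1 k (by omega) (by omega)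
  · skip
    by_cases hh3 : k < 2159
    · skip
      exact edgeRange_sound data 4 111 2048 e4_c2 k (by omega) (by omega)
    · skip
      exact edgeRange_sound data 4 1937 2159 e4_c3 k (by omega) (by omega)

theorem allE5 : ∀ k, k < 4096 → justE data 5 k = true := by
  intro k hk
  by_cases hh1 : k < 2048
  · skip
    by_cases hh2 : k < 1024
    · skip
      exact edgeRange_sound data 5 1024 0 e5_c0 k (by omega) (by omega)
    · skip
      exact edgeRange_sound data 5 1024 1024 e5_c1 k (by omega) (by omega)
  · skip
    by_cases hh3 : k < 2159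
    · skip
      exact edgeRange_sound data 5 111 2048 e5_c2 k (by omega) (by omega)
    · skip
      exact edgeRange_sound data 5 1937 2159 e5_c3 k (by omega) (by omega)

theorem allE6 : ∀ k, k < 4096 → justE data 6 k = true := by
  intro k hk
  by_cases hh1 : k < 2048
  · skip
    by_cases hh2 : k < 1024
    · skip
      exact edgeRange_sound data 6 1024 0 e6_c0 k (by omega) (by omega)
    · skip
      exact edgeRange_sound data 6 1024 1024 e6_c1 k (by omega) (by omega)
  · skip
    by_cases hh3 : k < 2159
    · skip
      exact edgeRange_sound data 6 111 2048 e6_c2 k (by omega) (by omega)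
    · skip
      exact edgeRange_sound data 6 1937 2159 e6_c3 k (by omega) (by omega)

theorem allE7 : ∀ k, k < 4096 → justE data 7 k = true := by
  intro k hk
  by_cases hh1 : k < 2048
  · skip
    by_cases hh2 : k < 1024
    · skip
      exact edgeRange_sound data 7 1024 0 e7_c0 k (by omega) (by omega)
    · skip
      exact edgeRange_sound data 7 1024 1024 e7_c1 k (by omega) (by omega)
  · skip
    by_cases hh3 : k < 2159
    · skip
      exact edgeRange_sound data 7 111 2048 e7_c2 k (by omega) (by omega)
    · skip
      exact edgeRange_sound data 7 1937 2159 e7_c3 k (by omega) (by omega)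

theorem allE8 : ∀ k, k < 4096 → justE data 8 k = true := by
  intro k hk
  by_cases hh1 : k < 2048
  · skip
    by_cases hh2 : k < 1024
    · skip
      exact edgeRange_sound data 8 1024 0 e8_c0 k (by omega) (by omega)
    · skip
      exact edgeRange_sound data 8 1024 1024 e8_c1 k (by omega) (by omega)
  · skip
    by_cases hh3 : k < 2159
    · skip
      exact edgeRange_sound data 8 111 2048 e8_c2 k (by omega) (by omega)
    · skip
      exact edgeRange_sound data 8 1937 2159 e8_c3 k (by omega) (by omega)

theorem allE9 : ∀ k, k < 4096 → justE data 9 k = true := by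
  intro k hk
  by_cases hh1 : k < 2048
  · skip
    by_cases hh2 : k < 1024
    · skip
      exact edgeRange_sound data 9 1024 0 e9_c0 k (by omega) (by omega)
    · skip
      exact edgeRange_sound data 9 1024 1024 e9_c1 k (by omega) (by omega)
  · skip
    by_cases hh3 : k < 2159
    · skip
      exact edgeRange_sound data 9 111 2048 e9_c2 k (by omega) (by omega)
    · skip
      exact edgeRange_sound data 9 1937 2159 e9_c3 k (by omega) (by omega)

theorem allE10 : ∀ k, k < 4096 → justE data 10 k = true := by
  intro k hk
  by_cases hh1 : k < 2048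
  · skip
    by_cases hh2 : k < 1024
    · skip
      exact edgeRange_sound data 10 1024 0 e10_c0 k (by omega) (by omega)
    · skip
      exact edgeRange_sound data 10 1024 1024 e10_c1 k (by omega) (by omega)
  · skip
    by_cases hh3 : k < 2159
    · skip
      exact edgeRange_sound data 10 111 2048 e10_c2 k (by omega) (by omega)
    · skip
      exact edgeRange_sound data 10 1937 2159 e10_c3 k (by omega) (by omega)

theorem allE11 : ∀ k, k < 4096 → justE data 11 k = true := by
  intro k hk
  by_cases hh1 : k < 2048
  · skip
    by_cases hh2 : k < 1024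
    · skip
      exact edgeRange_sound data 11 1024 0 e11_c0 k (by omega) (by omega)
    · skip
      exact edgeRange_sound data 11 1024 1024 e11_c1 k (by omega) (by omega)
  · skip
    by_cases hh3 : k < 2159
    · skip
      exact edgeRange_sound data 11 111 2048 e11_c2 k (by omega) (by omega)
    · skip
      exact edgeRange_sound data 11 1937 2159 e11_c3 k (by omega) (by omega)

theorem allE12 : ∀ k, k < 4096 → justE data 12 k = true := by
  intro k hk
  by_cases hh1 : k < 2048
  · skip
    by_cases hh2 : k < 1024
    · skip
      exact edgeRange_sound data 12 1024 0 e12_c0 k (by omega) (by omega)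
    · skip
      exact edgeRange_sound data 12 1024 1024 e12_c1 k (by omega) (by omega)
  · skip
    by_cases hh3 : k < 2159
    · skip
      exact edgeRange_sound data 12 111 2048 e12_c2 k (by omega) (by omega)
    · skip
      exact edgeRange_sound data 12 1937 2159 e12_c3 k (by omega) (by omega)

theorem allE13 : ∀ k, k < 4096 → justE data 13 k = true := by
  intro k hk
  by_cases hh1 : k < 2048
  · skip
    by_cases hh2 : k < 1024
    · skip
      exact edgeRange_sound data 13 1024 0 e13_c0 k (by omega) (by omega)
    · skip
      exact edgeRange_sound data 13 1024 1024 e13_c1 k (by omega) (by omega)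
  · skip
    by_cases hh3 : k < 2159
    · skip
      exact edgeRange_sound data 13 111 2048 e13_c2 k (by omega) (by omega)
    · skip
      exact edgeRange_sound data 13 1937 2159 e13_c3 k (by omega) (by omega)

theorem allE14 : ∀ k, k < 4096 → justE data 14 k = true := by
  intro k hk
  by_cases hh1 : k < 2048
  · skip
    by_cases hh2 : k < 1024
    · skip
      exact edgeRange_sound data 14 1024 0 e14_c0 k (by omega) (by omega)
    · skip
      exact edgeRange_sound data 14 1024 1024 e14_c1 k (by omega) (by omega)
  · skip
    by_cases hh3 : k < 2159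
    · skip
      exact edgeRange_sound data 14 111 2048 e14_c2 k (by omega) (by omega)
    · skip
      exact edgeRange_sound data 14 1937 2159 e14_c3 k (by omega) (by omega)

theorem allE15 : ∀ k, k < 4096 → justE data 15 k = true := by
  intro k hk
  by_cases hh1 : k < 2048
  · skip
    by_cases hh2 : k < 1024
    · skip
      exact edgeRange_sound data 15 1024 0 e15_c0 k (by omega) (by omega)
    · skip
      exact edgeRange_sound data 15 1024 1024 e15_c1 k (by omega) (by omega)
  · skip
    by_cases hh3 : k < 2159
    · skip
      exact edgeRange_sound data 15 111 2048 e15_c2 k (by omega) (by omega)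
    · skip
      exact edgeRange_sound data 15 1937 2159 e15_c3 k (by omega) (by omega)

theorem allE : ∀ c k, c < data.nc → k ≤ data.mask → justE data c k = true := by
  intro c k hc hk
  have hk' : k < 4096 := Nat.lt_succ_of_le hk
  have hc' : c < 16 := hc
  interval_cases c
  · exact allE0 k hk'
  · exact allE1 k hk'
  · exact allE2 k hk'
  · exact allE3 k hk'
  · exact allE4 k hk'
  · exact allE5 k hk'
  · exact allE6 k hk'
  · exact allE7 k hk'
  · exact allE8 k hk'
  · exact allE9 k hk'
  · exact allE10 k hk'
  · exact allE11 k hk'
  · exact allE12 k hk'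
  · exact allE13 k hk'
  · exact allE14 k hk'
  · exact allE15 k hk'

theorem allM : ∀ k, k ≤ data.mask → justM data k = true := by
  intro k hk
  have hk' : k < 4096 := Nat.lt_succ_of_le hk
  by_cases hh1 : k < 2048
  · skip
    by_cases hh2 : k < 1024
    · skip
      exact mergeRange_sound data 1024 0 m_c0 k (by omega) (by omega)
    · skip
      exact mergeRange_sound data 1024 1024 m_c1 k (by omega) (by omega)
  · skip
    by_cases hh3 : k < 2159
    · skip
      exact mergeRange_sound data 111 2048 m_c2 k (by omega) (by omega)
    · skip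
      exact mergeRange_sound data 1937 2159 m_c3 k (by omega) (by omega)

theorem rows_all : ∀ k, k < M → isFinal data k = true → rowOK data M k data.nc = true := by
  intro k hk
  have hk' : k < 2159 := hk
  by_cases hh1 : k < 1024
  · skip
    exact rowsRange_sound data M 1024 0 rows0 k (by omega) (by omega)
  · skip
    by_cases hh2 : k < 2048
    · skip
      exact rowsRange_sound data M 1024 1024 rows1 k (by omega) (by omega)
    · skip
      exact rowsRange_sound data M 111 2048 rows2 k (by omega) (by omega)

theorem cnt_ok : countFinal data M 0 0 = n := by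
  exact cnt0

theorem bound : Finite (PresentedGroup (relSet Cfsg.Agent.Helper4.TC.O73PCod.dec bases) ⧸ (Subgroup.closure (relSet Cfsg.Agent.Helper4.TC.O73PCod.dec subsL)).map (PresentedGroup.mk (relSet Cfsg.Agent.Helper4.TC.O73PCod.dec bases))) ∧
    Nat.card (PresentedGroup (relSet Cfsg.Agent.Helper4.TC.O73PCod.dec bases) ⧸ (Subgroup.closure (relSet Cfsg.Agent.Helper4.TC.O73PCod.dec subsL)).map (PresentedGroup.mk (relSet Cfsg.Agent.Helper4.TC.O73PCod.dec bases))) ≤ n :=
  tc_bound data bases subsL rots Cfsg.Agent.Helper4.TC.O73PCod.coding (mem_relSet bases) (mem_relSet subsL) words_ok allE allM M n fin0_ok (by decide) (by decide) cnt_ok rows_all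

end Cfsg.Agent.Lib.Helper2.O73Mult.WA
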